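import Mathlib

set_option autoImplicit false
set_option linter.style.haveILetI false
universe u
open CategoryTheory CategoryTheory.Limits AlgebraicGeometry

namespace Groth.Agent.GeomFib

/-- `P` descends along flat surjective morphisms. -/
def DescendsFFlat (P : ObjectProperty Scheme.{u}) : Prop :=
  ∀ ⦃A B : Scheme.{u}⦄ (q : A ⟶ B) [Flat q] [Surjective q], P A → P B

theorem descends_irreducible : DescendsFFlat.{u} (IrreducibleSpace ·) := by
  intro A B q _ _ hA
  have hs := q.surjective
  haveI : Nonempty B := ⟨q hA.toNonempty.some⟩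
  haveI : PreirreducibleSpace B := ⟨by
    rw [← hs.range_eq, ← Set.image_univ]
    exact hA.isPreirreducible_univ.image _ q.continuous.continuousOn⟩
  exact ⟨‹_›⟩

theorem descends_connected : DescendsFFlat.{u} (ConnectedSpace ·) := by
  intro A B q _ _ hA
  exact q.surjective.connectedSpace q.continuous

theorem geometrically_iff_of_isPullback (P : ObjectProperty Scheme.{u}) (hP : DescendsFFlat P)
    {X X' : Scheme.{u}} {k k' : Type u} [Field k] [Field k'] (f : X ⟶ Spec (.of k))
    (f' : X' ⟶ Spec (.of k')) (g : Spec (.of k') ⟶ Spec (.of k)) (g' : X' ⟶ X)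
    (hc : IsPullback g' f' f g) : geometrically P f' ↔ geometrically P f := by
  refine ⟨fun h => ?_, fun h => MorphismProperty.of_isPullback hc h⟩
  intro K _ y Z fst snd hZ
  haveI : Subsingleton ↥(Spec (CommRingCat.of k)) := inferInstanceAs (Subsingleton (PrimeSpectrum k))
  obtain ⟨w, -, -⟩ := Scheme.Pullback.exists_preimage_pullback (f := g) (g := y)
    (IsLocalRing.closedPoint k') (IsLocalRing.closedPoint K) (Subsingleton.elim _ _)
  let c := (pullback g y).fromSpecResidueField w
  let s := c ≫ pullback.fst g y
  let t := c ≫ pullback.snd g y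
  have hst : t ≫ y = s ≫ g := by simp [s, t, pullback.condition]
  have hW : IsPullback (pullback.fst snd t ≫ fst) (pullback.snd snd t) f (t ≫ y) :=
    (IsPullback.of_hasPullback snd t).paste_horiz hZ
  rw [hst] at hW
  have hW' := IsPullback.of_right
    (v₁₁ := pullback.snd snd t) (h₁₁ := hc.lift (pullback.fst snd t ≫ fst) (pullback.snd snd t ≫ s)
      (hW.w.trans (Category.assoc _ _ _).symm))
    (by simpa using hW) (hc.lift_snd _ _ _) hc
  have hPW : P (pullback snd t) := h s _ _ hW'
  obtain ⟨φ, hφ⟩ := Spec.map_surjective t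
  haveI : Flat t := by
    rw [← hφ, Flat.SpecMap_iff]
    algebraize [φ.hom]
    exact inferInstanceAs (Module.Flat K ((pullback g y).residueField w))
  haveI : Surjective t := ⟨fun x => ⟨IsLocalRing.closedPoint _,
    Subsingleton.elim (α := PrimeSpectrum K) _ _⟩⟩
  exact hP (pullback.fst snd t) hPW

end Groth.Agent.GeomFib
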